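import Cfsg.Agent.H976.Rg.PPart

/-!
# S3691, task M1: the `p`-part of the normaliser of a quadratic field in `O_8^-(q)`, instantiation (helper976)
-/

set_option autoImplicit false
set_option linter.unusedSectionVars false

namespace Cfsg.Agent.H976.Rg

open Module QuadraticMap Cfsg Cfsg.Geo Cfsg.Agent.LieClassical.OrthCore Cfsg.Agent.LieClassical.OrthTrans
  Cfsg.Agent.H955 Cfsg.Agent.H954.TSing Cfsg.Agent.H884.El Cfsg.Agent.H449.Reg
open Cfsg.Agent.H951 (fx cm Inv)
open scoped MatrixGroups Matrix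

variable {ι : Type} [Fintype ι] [DecidableEq ι] {F : Type} [Field F] [Fintype F] {Q : QuadraticForm F (ι → F)}

theorem lin_mul (g h : GL ι F) (v : ι → F) : lin (g * h) v = lin g (lin h v) := by
  rw [lin, lin, lin, Units.val_mul, Matrix.toLin'_mul]; rfl

theorem card_comm_le' (h8 : Fintype.card ι = 8) (hQ : Nondeg Q) (hP : ¬ IsPlus Q) {p : ℕ} [Fact p.Prime]
    [CharP F p] {L : Type} [Field L] [Finite L] [Algebra F L] (h2L : finrank F L = 2) (ρ : L →ₐ[F] Matrix ι ι F)
    (hadj : ∀ (k : L) (u v : ι → F), polar Q (Matrix.toLin' (ρ k) u) v = polar Q u (Matrix.toLin' (ρ k) v))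
    (hch2 : (2 : F) = 0 → ∀ (k : L) (v : ι → F), polar Q (Matrix.toLin' (ρ k) v) v = 0)
    {P : Subgroup (GL ι F)} (hPp : IsPGroup p P) (hPQ : P ≤ Cfsg.isometryGroup F (⇑Q))
    (hPK : ∀ g ∈ P, ∀ k : L, (g : Matrix ι ι F) * ρ k = ρ k * (g : Matrix ι ι F)) :
    Nat.card P ≤ (Nat.card F ^ 2) ^ 2 * (if p = 2 then 2 else 1) := by
  let φ : L →+* Module.End F (ι → F) := ((Matrix.toLinAlgEquiv' : Matrix ι ι F ≃ₐ[F] _).toAlgHom.comp ρ).toRingHom
  let _ : Module L (ι → F) := Module.compHom (ι → F) φ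
  have hsm : ∀ (k : L) (v : ι → F), k • v = Matrix.toLin' (ρ k) v := fun k v => rfl
  have hst : IsScalarTower F L (ι → F) := ⟨fun a k v => by
    rw [hsm, hsm, map_smul, map_smul]; rfl⟩
  let Ψ : P →* ((ι → F) ≃ₗ[L] (ι → F)) :=
    { toFun := fun g =>
        { toFun := fun v => lin (g : GL ι F) v
          map_add' := fun v w => map_add _ v w
          map_smul' := fun k v => by
            show lin (g : GL ι F) (k • v) = k • lin (g : GL ι F) v
            rw [hsm, hsm, lin, Matrix.toLin'_apply, Matrix.toLin'_apply, Matrix.toLin'_apply, Matrix.toLin'_apply,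
              Matrix.mulVec_mulVec, Matrix.mulVec_mulVec, hPK g g.2 k]
          invFun := fun v => lin ((g : GL ι F)⁻¹) v
          left_inv := fun v => by
            show lin ((g : GL ι F)⁻¹) (lin (g : GL ι F) v) = v
            rw [← lin_mul, inv_mul_cancel, lin_one]; rfl
          right_inv := fun v => by
            show lin (g : GL ι F) (lin ((g : GL ι F)⁻¹) v) = v
            rw [← lin_mul, mul_inv_cancel, lin_one]; rfl }
      map_one' := by
        apply LinearEquiv.ext
        intro v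
        show lin ((1 : P) : GL ι F) v = v
        rw [Subgroup.coe_one, lin_one]; rfl
      map_mul' := fun g h => by
        apply LinearEquiv.ext
        intro v
        exact lin_mul _ _ v }
  have hΨ : ∀ (g : P) (v : ι → F), Ψ g v = lin (g : GL ι F) v := fun g v => rfl
  have hinj : Function.Injective Ψ := by
    intro g h hgh
    apply Subtype.ext
    apply lin_injective
    apply LinearMap.ext
    intro v
    rw [← hΨ, ← hΨ, hgh]
  have hcard : Nat.card Ψ.range = Nat.card P := (Nat.card_congr (MonoidHom.ofInjective hinj).toEquiv).symm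
  have h8' : finrank F (ι → F) = 8 := by rw [Module.finrank_fintype_fun_eq_card, h8]
  have h4 : finrank L (ι → F) = 4 := by
    have h1 := Module.finrank_mul_finrank F L (ι → F)
    rw [h2L, h8'] at h1
    omega
  have hmain := card_p_le (L := L) (p := p) hQ h4 h2L (fun k u v => hadj k u v) (fun h k v => hch2 h k v) hP
    (P := Ψ.range) (hPp.of_surjective _ Ψ.rangeRestrict_surjective) (by
      rintro _ ⟨g, rfl⟩ v
      rw [hΨ]
      exact lin_iso hPQ g.2 v)
  have : Module.Finite F L := Module.finite_of_finrank_pos (by omega)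
  rw [hcard, Module.natCard_eq_pow_finrank (K := F) (V := L), h2L] at hmain
  exact hmain

theorem card_comm_le [Nonempty ι] (h8 : Fintype.card ι = 8) (hQ : Nondeg Q) (hP : ¬ IsPlus Q) {p : ℕ} [Fact p.Prime]
    [CharP F p] {K : Subalgebra F (Matrix ι ι F)} (hK : IsFieldSubalgebra 2 K)
    (hadj : ∀ J ∈ K, ∀ u v, polar Q (Matrix.toLin' J u) v = polar Q u (Matrix.toLin' J v))
    (hch2 : (2 : F) = 0 → ∀ J ∈ K, ∀ v, polar Q (Matrix.toLin' J v) v = 0)
    {P : Subgroup (GL ι F)} (hPp : IsPGroup p P) (hPQ : P ≤ Cfsg.isometryGroup F (⇑Q))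
    (hPK : ∀ g ∈ P, ∀ x ∈ K, (g : Matrix ι ι F) * x = x * (g : Matrix ι ι F)) :
    Nat.card P ≤ (Nat.card F ^ 2) ^ 2 * (if p = 2 then 2 else 1) := by
  let _ : Field K := (H912.isField_of_fieldSub hK).toField
  have hfin : Finite K := Module.finite_of_finite F
  have h2L : finrank F K = 2 := hK.finrank_eq
  exact card_comm_le' h8 hQ hP (L := K) h2L K.val (fun k => hadj k k.2) (fun h k => hch2 h k k.2) hPp hPQ
    (fun g hg k => hPK g hg k k.2)

/-- the action on the field -/
theorem card_le_two_mul [Nonempty ι] {K : Subalgebra F (Matrix ι ι F)} (hK : IsFieldSubalgebra 2 K)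
    {S : Subgroup (GL ι F)} (hS : S ≤ subalgebraNormalizer K) :
    ∃ P : Subgroup (GL ι F), P ≤ S ∧ (∀ g ∈ P, ∀ x ∈ K, (g : Matrix ι ι F) * x = x * (g : Matrix ι ι F)) ∧
      ∃ j, j ≤ 2 ∧ Nat.card S = Nat.card P * j := by
  have hN : H912.NormAlg S K := fun g hg a ha => (hS hg a).mp ha
  let _ : Field K := (H912.isField_of_fieldSub hK).toField
  have hfd : Module.Finite F K := inferInstance
  have hKfin : Finite K := Module.finite_of_finite F
  have hgal : IsGalois F K := inferInstance
  let χ : S →* (K ≃ₐ[F] K) :=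
    { toFun := fun g => H912.conjSub hN g
      map_one' := by
        apply AlgEquiv.ext
        intro x
        apply Subtype.ext
        rw [H912.conjSub_coe]
        simp
      map_mul' := fun g h => by
        apply AlgEquiv.ext
        intro x
        apply Subtype.ext
        rw [AlgEquiv.mul_apply, H912.conjSub_coe, H912.conjSub_coe, H912.conjSub_coe, Subgroup.coe_mul, _root_.mul_inv_rev,
          Units.val_mul, Units.val_mul]
        simp only [Matrix.mul_assoc] }
  refine ⟨χ.ker.map S.subtype, Subgroup.map_subtype_le _, ?_, χ.ker.index, ?_, ?_⟩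
  · rintro _ ⟨g, hg, rfl⟩ x hx
    have h1 := H912.conjSub_coe hN g ⟨x, hx⟩
    have h2 : H912.conjSub hN g ⟨x, hx⟩ = ⟨x, hx⟩ := by
      have h3 : χ g = 1 := hg
      change χ g ⟨x, hx⟩ = ⟨x, hx⟩
      rw [h3]; rfl
    rw [h2] at h1
    have h3 : x = (g : GL ι F).val * x * ((g : GL ι F)⁻¹).val := h1
    show (g : GL ι F).val * x = x * (g : GL ι F).val
    conv_rhs => rw [h3]
    rw [Matrix.mul_assoc, ← Units.val_mul, inv_mul_cancel, Units.val_one, Matrix.mul_one]
  · rw [Subgroup.index_ker]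
    have h3 : Nat.card (K ≃ₐ[F] K) = 2 := by rw [IsGalois.card_aut_eq_finrank, hK.finrank_eq]
    rw [← h3]
    exact Nat.card_le_card_of_injective _ (Subtype.val_injective)
  · rw [Subgroup.card_subtype, Subgroup.card_mul_index]

/-- **(M1)** -/
theorem ppart (h8 : Fintype.card ι = 8) (hQ : Nondeg Q) (hP : ¬ IsPlus Q) {p f r : ℕ} (hp : p.Prime) (hf : 1 ≤ f)
    (hF : Nat.card F = p ^ f) {K : Subalgebra F (Matrix ι ι F)} (hK : IsFieldSubalgebra 2 K)
    {H : Subgroup (GL ι F)} (hH : H ≤ Cfsg.isometryGroup F (⇑Q)) (hHK : H ≤ subalgebraNormalizer K)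
    (hr : PP (Nat.card F) 8 r) (hrH : r ∣ Nat.card H) :
    (Nat.card H).factorization p ≤ 4 * f + (if p = 2 then 2 else 0) := by
  have : Nonempty ι := Fintype.card_pos_iff.1 (by omega)
  have := Fact.mk hp
  have hcp : CharP F p := by
    obtain ⟨p', hp'⟩ := CharP.exists F
    obtain ⟨n, hpp', hn⟩ := FiniteField.card F p'
    rw [← Nat.card_eq_fintype_card, hF] at hn
    have h1 : p ∣ p' := (Nat.prime_dvd_prime_iff_eq hp hpp').2 (by
      have h2 : p ∣ p' ^ (n : ℕ) := by rw [← hn]; exact dvd_pow_self p (by omega)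
      exact (Nat.prime_dvd_prime_iff_eq hp hpp').1 (hp.dvd_of_dvd_pow h2))
    have h3 := (Nat.prime_dvd_prime_iff_eq hp hpp').1 h1
    rw [h3]; exact hp'
  have h8' : finrank F (ι → F) = 8 := by rw [Module.finrank_fintype_fun_eq_card, h8]
  -- the irreducible element
  obtain ⟨a, haH, hiso, har, ha1⟩ := exists_elt hH hr (by norm_num) hrH
  have hirr : ∀ W : Submodule F (ι → F), Inv (lin a) W → W = ⊥ ∨ W = ⊤ := fun W hW =>
    irr_of_pp hiso hr (lin_ne_one ha1) h8' hW
  have hca := H975.Cov.comm_field' hK (hHK haH) (r := r) (by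
    have h1 := hiso.two_lt
    exact (Nat.coprime_primes hiso.prime Nat.prime_two).2 (by omega)) har
  have hak : (lin a) ^ (Nat.card F ^ 4 + 1) = 1 := by
    obtain ⟨c, hc⟩ := dvd_of_pp hr
    rw [hc, pow_mul, hiso.pow, one_pow]
  let _ : Field K := (H912.isField_of_fieldSub hK).toField
  have hKfin : Finite K := Module.finite_of_finite F
  let _ : Fintype K := Fintype.ofFinite K
  have hcard : Fintype.card K = Nat.card F ^ 2 := by
    rw [Module.card_eq_pow_finrank (K := F) (V := K), hK.finrank_eq, Nat.card_eq_fintype_card]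
  have hpow : ∀ J ∈ K, J ^ (Nat.card F ^ 4) = J := by
    intro J hJ
    have h1 : ∀ k : K, k ^ (Nat.card F ^ 4) = k := by
      intro k
      rw [show Nat.card F ^ 4 = Fintype.card K * Fintype.card K by rw [hcard]; ring, pow_mul, FiniteField.pow_card,
        FiniteField.pow_card]
    exact congrArg Subtype.val (h1 ⟨J, hJ⟩)
  have hadj : ∀ J ∈ K, ∀ u v, polar Q (Matrix.toLin' J u) v = polar Q u (Matrix.toLin' J v) := by
    intro J hJ u v
    have h1 := H975.Cov.adj_main (Q := Q) (x := lin a) (J := Matrix.toLin' J) (U := ⊤) H951.inv_top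
      (fun W _ hW => hirr W hW) H951.inv_top (fun w => H975.Cov.comm_lin hca hJ w) hiso.iso (k := 4) hak
      (u := u) (v := v) trivial trivial
    rw [h1]
    have h2 : (Matrix.toLin' J) ^ (Nat.card F ^ 4) = Matrix.toLin' J := by
      have h3 : Matrix.toLin' (J ^ (Nat.card F ^ 4)) = (Matrix.toLin' J) ^ (Nat.card F ^ 4) :=
        map_pow (Matrix.toLinAlgEquiv' : Matrix ι ι F ≃ₐ[F] _) J _
      rw [← h3, hpow J hJ]
    rw [h2]
  have hch2 : (2 : F) = 0 → ∀ J ∈ K, ∀ v, polar Q (Matrix.toLin' J v) v = 0 := by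
    intro h2 J hJ v
    exact polar_J_zero h2 hirr (fun w => H975.Cov.comm_lin hca hJ w) hiso.iso (hadj J hJ) (by omega) v
  -- a Sylow subgroup
  have hfin : Finite (GL ι F) := inferInstance
  let S : Sylow p H := default
  have hS : Nat.card (S : Subgroup H) = p ^ (Nat.card H).factorization p := S.card_eq_multiplicity
  have hSp : IsPGroup p ((S : Subgroup H).map H.subtype) := S.isPGroup'.map _
  obtain ⟨P, hPS, hPK, j, hj, hSj⟩ := card_le_two_mul hK (S := (S : Subgroup H).map H.subtype)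
    ((Subgroup.map_subtype_le _).trans hHK)
  have hPp : IsPGroup p P := hSp.to_le hPS
  have hle := card_comm_le h8 hQ hP hK hadj hch2 hPp (hPS.trans ((Subgroup.map_subtype_le _).trans hH)) hPK
  rw [Subgroup.card_subtype, hS] at hSj
  rw [hF] at hle
  by_cases hp2 : p = 2
  · rw [if_pos hp2] at hle ⊢
    have h1 : p ^ (Nat.card H).factorization p ≤ p ^ (4 * f + 2) := by
      rw [hSj]
      calc Nat.card P * j ≤ ((p ^ f) ^ 2) ^ 2 * 2 * 2 := Nat.mul_le_mul hle hj
        _ = p ^ (4 * f + 2) := by rw [hp2]; ring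
    exact (Nat.pow_le_pow_iff_right hp.one_lt).1 h1
  · rw [if_neg hp2] at hle ⊢
    obtain ⟨m, hm⟩ := hPp.exists_card_eq
    have hj1 : j = 1 := by
      have h1 : j ∣ p ^ (Nat.card H).factorization p := ⟨Nat.card P, by rw [hSj, mul_comm]⟩
      obtain ⟨i, -, hi⟩ := (Nat.dvd_prime_pow hp).1 h1
      by_cases hi0 : i = 0
      · rw [hi, hi0, pow_zero]
      · exfalso
        have h2 : p ^ 1 ≤ p ^ i := Nat.pow_le_pow_right hp.pos (by omega)
        have h3 := hp.two_le
        rw [pow_one, ← hi] at h2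
        omega
    rw [hj1, mul_one] at hSj
    have h1 : p ^ (Nat.card H).factorization p ≤ p ^ (4 * f) := by
      rw [hSj]
      calc Nat.card P ≤ ((p ^ f) ^ 2) ^ 2 * 1 := hle
        _ = p ^ (4 * f) := by ring
    have := (Nat.pow_le_pow_iff_right hp.one_lt).1 h1
    omega

end Cfsg.Agent.H976.Rg
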