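import Cfsg.Agent.H976.Rg.Stab

/-!
# S3691: the bound for `p`-groups commuting with a quadratic field (helper976)
-/

set_option autoImplicit false
set_option linter.unusedSectionVars false

namespace Cfsg.Agent.H976.Rg

open Module QuadraticMap Cfsg.Agent.LieClassical.OrthCore Cfsg.Agent.H955

variable {F : Type*} [Field F] {L : Type*} [Field L] [Algebra F L]
  {V : Type*} [AddCommGroup V] [Module F V] [Module L V] [IsScalarTower F L V] {Q : QuadraticForm F V}

theorem card_p_le [Fintype F] [Finite L] [Module.Finite F V] (hQ : Nondeg Q) (h4 : finrank L V = 4) (h2L : finrank F L = 2)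
    (hadj : ∀ (k : L) (u v : V), polar Q (k • u) v = polar Q u (k • v))
    (hch2 : (2 : F) = 0 → ∀ (k : L) (v : V), polar Q (k • v) v = 0) (hplus : ¬ IsPlus Q) {p : ℕ} [Fact p.Prime] [CharP F p]
    {P : Subgroup (V ≃ₗ[L] V)} (hP : IsPGroup p P) (hPQ : ∀ x ∈ P, ∀ v, Q (x v) = Q v) :
    Nat.card P ≤ Nat.card L ^ 2 * (if p = 2 then 2 else 1) := by
  have hfin : Finite V := Module.finite_of_finite F
  have hfin' : Finite (V ≃ₗ[L] V) := Finite.of_injective (fun x : V ≃ₗ[L] V => (x : V → V)) DFunLike.coe_injective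
  have h6 : 6 < finrank F V := by
    rw [← Module.finrank_mul_finrank F L V, h2L, h4]; norm_num
  obtain ⟨u, hu0, hu, hPu⟩ := exists_u h6 h2L hP hPQ
  obtain ⟨e, he⟩ : ∃ e, polar Q u e ≠ 0 := by
    by_contra hcon
    push Not at hcon
    exact hu0 (hQ u hcon)
  have hpL : p ∣ Nat.card L := by
    have : Module.Finite F L := Module.finite_of_finrank_pos (by omega)
    rw [Module.natCard_eq_pow_finrank (K := F) (V := L), h2L, Nat.card_eq_fintype_card]
    obtain ⟨n, -, hn⟩ := FiniteField.card F p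
    rw [hn]
    exact dvd_pow (dvd_pow_self p n.ne_zero) two_ne_zero
  have hp2 : (2 : F) = 0 → p = 2 := by
    intro h
    have h1 : p ∣ 2 := (CharP.cast_eq_zero_iff F p 2).1 (by exact_mod_cast h)
    exact (Nat.prime_dvd_prime_iff_eq Fact.out Nat.prime_two).1 h1
  let T : Subgroup (V ≃ₗ[L] V) := P ⊓ MulAction.stabilizer (V ≃ₗ[L] V) e
  have hT : IsPGroup p T := hP.to_le inf_le_left
  have hTle := stab_le (T := T) hQ h4 h2L hadj hch2 hplus hu0 hu he hpL hp2 hT (fun x hx => hPQ x hx.1)
    (fun x hx => hPu x hx.1) (fun x hx => hx.2)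
  have horb := orbit_le hQ h4 h2L hadj hu0 hu he hPQ hPu
  have h1 : Nat.card P = Nat.card (MulAction.orbit P e) * Nat.card (MulAction.stabilizer P e) := by
    rw [← Nat.card_prod, Nat.card_congr (MulAction.orbitProdStabilizerEquivGroup P e)]
  have h3 : Nat.card (MulAction.stabilizer P e) ≤ Nat.card T := by
    apply Nat.card_le_card_of_injective (fun x : MulAction.stabilizer P e =>
      (⟨((x : P) : V ≃ₗ[L] V), (x : P).2, x.2⟩ : T))
    intro x y hxy
    have h5 : ((x : P) : V ≃ₗ[L] V) = ((y : P) : V ≃ₗ[L] V) := congrArg (fun t : T => (t : V ≃ₗ[L] V)) hxy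
    exact Subtype.ext (Subtype.ext h5)
  rw [h1]
  exact Nat.mul_le_mul horb (h3.trans hTle)

end Cfsg.Agent.H976.Rg
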