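import Mathlib

/-!
# S3691: Chevalley-Warning for quadratic forms on a space over a quadratic extension (helper976)
-/

set_option autoImplicit false

namespace Cfsg.Agent.H976.Rg

open Module QuadraticMap

section cw

variable {F : Type*} [Field F] {V : Type*} [AddCommGroup V] [Module F V] {σ : Type*} [Fintype σ]

/-- the polynomial of `v ↦ B v v` -/
noncomputable def bpoly (b : σ → V) (B : V →ₗ[F] V →ₗ[F] F) : MvPolynomial σ F :=
  ∑ i, ∑ j, MvPolynomial.C (B (b i) (b j)) * (MvPolynomial.X i * MvPolynomial.X j)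

theorem eval_bpoly (b : σ → V) (B : V →ₗ[F] V →ₗ[F] F) (x : σ → F) :
    MvPolynomial.eval x (bpoly b B) = B (∑ i, x i • b i) (∑ i, x i • b i) := by
  have h1 : B (∑ i, x i • b i) (∑ i, x i • b i) = ∑ i, ∑ j, B (b i) (b j) * (x i * x j) := by
    rw [LinearMap.map_sum₂]
    apply Finset.sum_congr rfl
    intro i _
    rw [map_sum]
    apply Finset.sum_congr rfl
    intro j _
    rw [LinearMap.map_smul₂, map_smul, smul_eq_mul, smul_eq_mul]
    ring
  rw [h1, bpoly, map_sum]
  apply Finset.sum_congr rfl
  intro i _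
  rw [map_sum]
  apply Finset.sum_congr rfl
  intro j _
  rw [map_mul, map_mul, MvPolynomial.eval_C, MvPolynomial.eval_X, MvPolynomial.eval_X]

theorem totalDegree_bpoly (b : σ → V) (B : V →ₗ[F] V →ₗ[F] F) : (bpoly b B).totalDegree ≤ 2 := by
  unfold bpoly
  refine (MvPolynomial.totalDegree_finsetSum _ _).trans (Finset.sup_le fun i _ => ?_)
  refine (MvPolynomial.totalDegree_finsetSum _ _).trans (Finset.sup_le fun j _ => ?_)
  refine (MvPolynomial.totalDegree_mul _ _).trans ?_
  rw [MvPolynomial.totalDegree_C, zero_add]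
  refine (MvPolynomial.totalDegree_mul _ _).trans ?_
  rw [MvPolynomial.totalDegree_X, MvPolynomial.totalDegree_X]

theorem cw3 [Fintype F] [Module.Finite F V] {p : ℕ} [CharP F p] (h : 6 < finrank F V)
    (B : Fin 3 → (V →ₗ[F] V →ₗ[F] F)) : p ∣ Nat.card {v : V // ∀ i, B i v v = 0} := by
  classical
  let b := Module.finBasis F V
  have h1 := char_dvd_card_solutions_of_sum_lt (K := F) p (σ := Fin (finrank F V)) (s := (Finset.univ : Finset (Fin 3)))
    (f := fun i => bpoly b (B i)) (by
      rw [Fintype.card_fin]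
      refine lt_of_le_of_lt (Finset.sum_le_sum fun i _ => totalDegree_bpoly b (B i)) ?_
      rw [Finset.sum_const, Finset.card_univ, Fintype.card_fin, smul_eq_mul]
      omega)
  have h1' : p ∣ Nat.card {x : Fin (finrank F V) → F // ∀ i ∈ (Finset.univ : Finset (Fin 3)),
      MvPolynomial.eval x (bpoly b (B i)) = 0} := by
    rw [Nat.card_eq_fintype_card]
    convert h1
  have e : {x : Fin (finrank F V) → F // ∀ i ∈ (Finset.univ : Finset (Fin 3)), MvPolynomial.eval x (bpoly b (B i)) = 0} ≃
      {v : V // ∀ i, B i v v = 0} :=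
    (b.equivFun.symm.toEquiv).subtypeEquiv (fun x => by
      have h2 : ∀ i, MvPolynomial.eval x (bpoly b (B i)) = B i (b.equivFun.symm x) (b.equivFun.symm x) := by
        intro i
        rw [eval_bpoly, Module.Basis.equivFun_symm_apply]
      constructor
      · intro h3 i
        show B i (b.equivFun.symm x) (b.equivFun.symm x) = 0
        rw [← h2]
        exact h3 i (Finset.mem_univ _)
      · intro h3 i _
        rw [h2]
        exact h3 i)
  rw [Nat.card_congr e] at h1'
  exact h1'

variable {L : Type*} [Field L] [Algebra F L] [Module L V] [IsScalarTower F L V]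

/-- multiplication by `k` -/
def ml (F : Type*) [Field F] (V : Type*) [AddCommGroup V] [Module F V] {L : Type*} [Field L] [Algebra F L] [Module L V]
    [IsScalarTower F L V] (k : L) : V →ₗ[F] V where
  toFun v := k • v
  map_add' := smul_add k
  map_smul' a v := by
    show k • (a • v) = a • (k • v)
    rw [← algebraMap_smul L a v, ← algebraMap_smul L a (k • v), smul_smul, smul_smul, mul_comm]

/-- the number of `v` with `L v` totally singular is divisible by `p` -/
theorem dvd_card_sing [Fintype F] [Module.Finite F V] {p : ℕ} [CharP F p] (h : 6 < finrank F V)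
    (h2 : finrank F L = 2) (Q : QuadraticForm F V) :
    p ∣ Nat.card {v : V // ∀ k : L, Q (k • v) = 0} := by
  have : Module.Finite F L := Module.finite_of_finrank_pos (by omega)
  obtain ⟨B, hB⟩ := LinearMap.BilinMap.toQuadraticMap_surjective Q
  let c : Module.Basis (Fin 2) F L := Module.finBasisOfFinrankEq F L h2
  let B3 : Fin 3 → (V →ₗ[F] V →ₗ[F] F) :=
    ![(B.compl₁₂ (ml F V (c 0)) (ml F V (c 0))), (B.compl₁₂ (ml F V (c 1)) (ml F V (c 1))),
      ((polarBilin Q).compl₁₂ (ml F V (c 0)) (ml F V (c 1)))]
  have h3 := cw3 (p := p) h B3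
  have hBB : ∀ v, B v v = Q v := fun v => by rw [← hB]; rfl
  have key : ∀ v : V, (∀ i, B3 i v v = 0) ↔ ∀ k : L, Q (k • v) = 0 := by
    intro v
    have e0 : B3 0 v v = Q (c 0 • v) := hBB _
    have e1 : B3 1 v v = Q (c 1 • v) := hBB _
    have e2 : B3 2 v v = polar Q (c 0 • v) (c 1 • v) := rfl
    constructor
    · intro h4 k
      have h5 := c.sum_repr k
      rw [Fin.sum_univ_two] at h5
      rw [← h5, add_smul, smul_assoc, smul_assoc, QuadraticMap.map_add (f := ⇑Q), QuadraticMap.map_smul, QuadraticMap.map_smul,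
        polar_smul_left, polar_smul_right, ← e0, ← e1, ← e2, h4, h4, h4]
      simp
    · intro h4 i
      fin_cases i
      · exact e0.trans (h4 _)
      · exact e1.trans (h4 _)
      · refine e2.trans ?_
        rw [polar, ← add_smul, h4, h4, h4]; simp
  rwa [Nat.card_congr (Equiv.subtypeEquivRight key)] at h3

end cw

end Cfsg.Agent.H976.Rg
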