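import Cfsg.Agent.H976.Rg.CW
import Cfsg.Agent.H955.QSpace

/-!
# S3691: `p`-groups of isometries commuting with a quadratic field, dimension 8, minus type (helper976)
-/

set_option autoImplicit false

namespace Cfsg.Agent.H976.Rg

open Module QuadraticMap Cfsg.Agent.LieClassical.OrthCore Cfsg.Agent.H955

section core

variable {F : Type*} [Field F] {L : Type*} [Field L] [Algebra F L]
  {V : Type*} [AddCommGroup V] [Module F V] [Module L V] [IsScalarTower F L V] {Q : QuadraticForm F V}

/-- the orthogonal space of an `L`-subspace -/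
def pp (hadj : ∀ (k : L) (u v : V), polar Q (k • u) v = polar Q u (k • v)) (W : Submodule L V) : Submodule L V where
  carrier := {v | ∀ w ∈ W, polar Q w v = 0}
  add_mem' := by
    intro a b ha hb w hw
    rw [polar_add_right, ha w hw, hb w hw, add_zero]
  zero_mem' := fun w _ => polar_zero_right Q w
  smul_mem' := by
    intro c x hx w hw
    rw [← hadj]
    exact hx _ (W.smul_mem c hw)

theorem finrank_pp [Module.Finite F V] (hQ : Nondeg Q) (h2L : finrank F L = 2)
    (hadj : ∀ (k : L) (u v : V), polar Q (k • u) v = polar Q u (k • v)) (W : Submodule L V) :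
    finrank L W + finrank L (pp hadj W) = finrank L V := by
  have h1 := finrank_add_perp hQ (W.restrictScalars F)
  have h2 : perp Q (W.restrictScalars F) = (pp hadj W).restrictScalars F := rfl
  rw [h2] at h1
  have e1 : finrank F L * finrank L W = finrank F (W.restrictScalars F) := Module.finrank_mul_finrank F L W
  have e2 : finrank F L * finrank L (pp hadj W) = finrank F ((pp hadj W).restrictScalars F) :=
    Module.finrank_mul_finrank F L (pp hadj W)
  have e3 : finrank F L * finrank L V = finrank F V := Module.finrank_mul_finrank F L V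
  rw [← e1, ← e2, ← e3, h2L] at h1
  omega

theorem exists_fixed [Finite V] {p : ℕ} [Fact p.Prime] {P : Subgroup (V ≃ₗ[L] V)} (hP : IsPGroup p P) (S : Set V)
    (hS : ∀ x ∈ P, ∀ v ∈ S, x v ∈ S) (h0 : (0 : V) ∈ S) (hd : p ∣ Nat.card S) :
    ∃ u ∈ S, u ≠ 0 ∧ ∀ x ∈ P, x u = u := by
  let _ : MulAction P S :=
    { smul := fun x s => ⟨(x : V ≃ₗ[L] V) s, hS x x.2 s s.2⟩
      one_smul := fun s => Subtype.ext rfl
      mul_smul := fun x y s => Subtype.ext rfl }
  obtain ⟨b, hb, hb0⟩ := hP.exists_fixed_point_of_prime_dvd_card_of_fixed_point (α := S) hd (a := ⟨0, h0⟩)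
    (fun x => Subtype.ext (map_zero (x : V ≃ₗ[L] V)))
  refine ⟨b, b.2, fun h => hb0 (Subtype.ext h.symm), fun x hx => ?_⟩
  exact congrArg Subtype.val (hb ⟨x, hx⟩)

theorem exists_fixed' [Finite V] {p : ℕ} [Fact p.Prime] (hpL : p ∣ Nat.card L) {P : Subgroup (V ≃ₗ[L] V)} (hP : IsPGroup p P)
    (W : Submodule L V) (hW : W ≠ ⊥) (hS : ∀ x ∈ P, ∀ v ∈ W, x v ∈ W) :
    ∃ u ∈ W, u ≠ 0 ∧ ∀ x ∈ P, x u = u := by
  apply exists_fixed hP (W : Set V) hS W.zero_mem
  have : Module.Finite L V := inferInstance
  have h1 : Nat.card W = Nat.card L ^ finrank L W := Module.natCard_eq_pow_finrank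
  show p ∣ Nat.card W
  rw [h1]
  exact dvd_pow hpL (by rwa [Ne, Submodule.finrank_eq_zero])

/-- squares span -/
theorem sq_span [Finite L] {a z : V} (h : ∀ k : L, polar Q a ((k * k) • z) = 0) (k : L) : polar Q a (k • z) = 0 := by
  by_cases h2 : (2 : F) = 0
  · have h2L : (2 : L) = 0 := by
      have := congrArg (algebraMap F L) h2
      rwa [map_ofNat, map_zero] at this
    have hch : ringChar L = 2 := CharP.ringChar_of_prime_eq_zero Nat.prime_two (by exact_mod_cast h2L)
    obtain ⟨m, hm⟩ := FiniteField.isSquare_of_char_two hch k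
    rw [hm]
    exact h m
  · have h1 : polar Q a (((k + 1) * (k + 1)) • z) = 0 := h (k + 1)
    have h3 : ((k + 1) * (k + 1)) • z = (k * k) • z + ((2 : F) • (k • z) + (1 * 1 : L) • z) := by
      rw [two_smul, ← add_smul, ← add_smul, ← add_smul]
      congr 1
      ring
    rw [h3, polar_add_right, polar_add_right, h k, h 1, polar_smul_right, zero_add, add_zero, smul_eq_mul] at h1
    exact (mul_eq_zero.1 h1).resolve_left h2

end core

end Cfsg.Agent.H976.Rg
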