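import Cfsg.Agent.H976.Rg.Core

/-!
# S3691: the orbit of `e` (helper976)
-/

set_option autoImplicit false
set_option linter.unusedSectionVars false

namespace Cfsg.Agent.H976.Rg

open Module QuadraticMap Cfsg.Agent.LieClassical.OrthCore Cfsg.Agent.H955

section orbit

variable {F : Type*} [Field F] {L : Type*} [Field L] [Algebra F L]
  {V : Type*} [AddCommGroup V] [Module F V] [Module L V] [IsScalarTower F L V] {Q : QuadraticForm F V}

theorem polar_pres {x : V ≃ₗ[L] V} (h : ∀ v, Q (x v) = Q v) (v w : V) : polar Q (x v) (x w) = polar Q v w := by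
  rw [polar, polar, ← map_add, h, h, h]

theorem polar_sing {u : V} (hu : ∀ k : L, Q (k • u) = 0) (a b : L) : polar Q (a • u) (b • u) = 0 := by
  rw [polar, ← add_smul, hu, hu, hu]; simp

theorem exists_u [Fintype F] [Module.Finite F V] {p : ℕ} [Fact p.Prime] [CharP F p] (h6 : 6 < finrank F V)
    (h2L : finrank F L = 2) {P : Subgroup (V ≃ₗ[L] V)} (hP : IsPGroup p P) (hPQ : ∀ x ∈ P, ∀ v, Q (x v) = Q v) :
    ∃ u : V, u ≠ 0 ∧ (∀ k : L, Q (k • u) = 0) ∧ ∀ x ∈ P, x u = u := by
  have hfin : Finite V := Module.finite_of_finite F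
  obtain ⟨u, hu, hu0, hux⟩ := exists_fixed hP {v : V | ∀ k : L, Q (k • v) = 0} (fun x hx v hv k => by
      rw [← map_smul, hPQ x hx]; exact hv k) (fun k => by rw [smul_zero, QuadraticMap.map_zero])
    (dvd_card_sing (L := L) (p := p) h6 h2L Q)
  exact ⟨u, hu0, hu, hux⟩

theorem orbit_le [Finite L] [Module.Finite F V] [Finite V] (hQ : Nondeg Q) (h4 : finrank L V = 4) (h2L : finrank F L = 2)
    (hadj : ∀ (k : L) (u v : V), polar Q (k • u) v = polar Q u (k • v)) {u e : V} (hu0 : u ≠ 0)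
    (hu : ∀ k : L, Q (k • u) = 0) (he : polar Q u e ≠ 0) {P : Subgroup (V ≃ₗ[L] V)}
    (hPQ : ∀ x ∈ P, ∀ v, Q (x v) = Q v) (hPu : ∀ x ∈ P, x u = u) :
    Nat.card (MulAction.orbit P e) ≤ Nat.card L ^ 2 := by
  have hmem : ∀ (y : MulAction.orbit P e) (k : L), (y : V) - e + k • u ∈ pp hadj (Submodule.span L {u}) := by
    rintro ⟨_, ⟨x, rfl⟩⟩ k w hw
    obtain ⟨c, rfl⟩ := Submodule.mem_span_singleton.1 hw
    have h1 : polar Q (c • u) ((x : V ≃ₗ[L] V) e) = polar Q (c • u) e := by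
      rw [← polar_pres (hPQ x x.2) (c • u) e, map_smul, hPu x x.2]
    show polar Q (c • u) ((x : V ≃ₗ[L] V) e - e + k • u) = 0
    rw [polar_add_right, polar_sub_right, h1, sub_self, zero_add, polar_sing hu]
  have hinj : Function.Injective (fun yk : MulAction.orbit P e × L =>
      (⟨(yk.1 : V) - e + yk.2 • u, hmem yk.1 yk.2⟩ : pp hadj (Submodule.span L {u}))) := by
    rintro ⟨⟨_, ⟨x, rfl⟩⟩, k⟩ ⟨⟨_, ⟨x', rfl⟩⟩, k'⟩ h
    have h1 : (x : V ≃ₗ[L] V) e - e + k • u = (x' : V ≃ₗ[L] V) e - e + k' • u := congrArg Subtype.val h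
    have h2 : (x : V ≃ₗ[L] V) e = (x' : V ≃ₗ[L] V) e + (k' - k) • u := by
      rw [sub_smul]
      calc (x : V ≃ₗ[L] V) e = ((x : V ≃ₗ[L] V) e - e + k • u) + e - k • u := by abel
        _ = ((x' : V ≃ₗ[L] V) e - e + k' • u) + e - k • u := by rw [h1]
        _ = (x' : V ≃ₗ[L] V) e + (k' • u - k • u) := by abel
    have h3 : ∀ m : L, polar Q e ((m * m) • ((k' - k) • u)) = 0 := by
      intro m
      have h4 : Q (m • (x : V ≃ₗ[L] V) e) = Q (m • e) := by rw [← map_smul, hPQ x x.2]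
      have h5 : Q (m • (x' : V ≃ₗ[L] V) e) = Q (m • e) := by rw [← map_smul, hPQ x' x'.2]
      have h6 : Q (m • ((k' - k) • u)) = 0 := by rw [smul_smul]; exact hu _
      rw [h2, smul_add, QuadraticMap.map_add (f := ⇑Q), h5, h6, add_zero] at h4
      have h7 : polar Q (m • (x' : V ≃ₗ[L] V) e) (m • (k' - k) • u) = 0 := by
        have := h4
        rwa [add_eq_left] at this
      have h8 : m • (k' - k) • u = (x' : V ≃ₗ[L] V) (m • (k' - k) • u) := by
        rw [map_smul, map_smul, hPu x' x'.2]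
      rw [h8, ← map_smul, polar_pres (hPQ x' x'.2), hadj, smul_smul] at h7
      exact h7
    have h9 : k' - k = 0 := by
      by_contra hc
      have h10 := sq_span h3 (k' - k)⁻¹
      rw [smul_smul, inv_mul_cancel₀ hc, one_smul, polar_comm] at h10
      exact he h10
    have h11 : k' = k := sub_eq_zero.1 h9
    rw [h9, zero_smul, add_zero] at h2
    exact Prod.ext (Subtype.ext h2) h11.symm
  have h1 := Nat.card_le_card_of_injective _ hinj
  rw [Nat.card_prod] at h1
  have h3 := finrank_pp hQ h2L hadj (Submodule.span L {u})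
  rw [finrank_span_singleton hu0, h4] at h3
  have h5 : Nat.card (pp hadj (Submodule.span L {u})) = Nat.card L ^ finrank L (pp hadj (Submodule.span L {u})) :=
    Module.natCard_eq_pow_finrank
  rw [h5, show finrank L (pp hadj (Submodule.span L {u})) = 3 by omega, pow_succ] at h1
  exact Nat.le_of_mul_le_mul_right h1 Nat.card_pos

end orbit

end Cfsg.Agent.H976.Rg
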