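import Cfsg.Agent.H449.Reg.Abs
import Cfsg.Agent.H449.Reg.Pre
import Cfsg.Agent.H370.Rg.Zsig
import Cfsg.Agent.H975.Cov.Lin
import Cfsg.Agent.H976.Rg.Comb

/-!
# S3691, task M1: the `p`-part of the normaliser of a quadratic field in `O_8^-(q)` (helper976)
-/

set_option autoImplicit false
set_option linter.unusedSectionVars false

namespace Cfsg.Agent.H976.Rg

open Module QuadraticMap Cfsg Cfsg.Geo Cfsg.Agent.LieClassical.OrthCore Cfsg.Agent.LieClassical.OrthTrans
  Cfsg.Agent.H955 Cfsg.Agent.H954.TSing Cfsg.Agent.H884.El Cfsg.Agent.H449.Reg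
open Cfsg.Agent.H951 (fx cm Inv)
open scoped MatrixGroups Matrix

universe u v

/-- an element of order `r`, `r` primitive for `q⁸ - 1`, is irreducible -/
theorem irr_of_pp {F : Type*} [Field F] [Fintype F] {V : Type*} [AddCommGroup V] [Module F V] [FiniteDimensional F V]
    {Q : QuadraticForm F V} {x : Module.End F V} {r e : ℕ} (h : Iso Q x r) (hr : PP (Nat.card F) e r) (hx1 : x ≠ 1)
    (hV : finrank F V = e) {W : Submodule F V} (hW : Inv x W) : W = ⊥ ∨ W = ⊤ := by
  by_cases hWt : finrank F W = e
  · exact Or.inr (Submodule.eq_top_of_finrank_eq (by rw [hWt, hV]))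
  · left
    have h1 : finrank F W ≤ e := by rw [← hV]; exact Submodule.finrank_le W
    have h2 := h.le_fx hr hW (by omega)
    have h3 : finrank F (cm x) ≠ 0 := by
      intro h0
      exact cm_ne_bot hx1 (Submodule.finrank_eq_zero.1 h0)
    have h4 := Nat.le_of_dvd (Nat.pos_of_ne_zero h3) (h.dvd_cm hr)
    have h5 := h.finrank_add
    have h6 : finrank F (fx x) = 0 := by omega
    have h7 : fx x = ⊥ := Submodule.finrank_eq_zero.1 h6
    rw [h7] at h2
    exact le_bot_iff.1 h2

/-- `q⁴ + 1` is divisible by `r` -/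
theorem dvd_of_pp {q r : ℕ} (hr : PP q 8 r) : r ∣ q ^ 4 + 1 := by
  have := Fact.mk hr.prime
  have h1 : ((q : ℕ) : ZMod r) ^ 8 = 1 := by rw [← hr.ord, pow_orderOf_eq_one]
  have h2 : ((q : ℕ) : ZMod r) ^ 4 ≠ 1 := by
    intro h
    have h3 := orderOf_dvd_of_pow_eq_one h
    rw [hr.ord] at h3
    omega
  have h4 : (((q : ℕ) : ZMod r) ^ 4 - 1) * (((q : ℕ) : ZMod r) ^ 4 + 1) = 0 := by linear_combination h1
  have h5 := (mul_eq_zero.1 h4).resolve_left (sub_ne_zero.2 h2)
  rw [← CharP.cast_eq_zero_iff (ZMod r) r]
  push_cast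
  exact h5

/-- characteristic 2: `polar (J v) v = 0` -/
theorem polar_J_zero {F : Type*} [Field F] [Fintype F] {V : Type*} [AddCommGroup V] [Module F V] [FiniteDimensional F V]
    {Q : QuadraticForm F V} (h2 : (2 : F) = 0) {x J : Module.End F V} (hirr : ∀ W : Submodule F V, Inv x W → W = ⊥ ∨ W = ⊤)
    (hJx : ∀ v, J (x v) = x (J v)) (hiso : ∀ v, Q (x v) = Q v) (hadj : ∀ u v, polar Q (J u) v = polar Q u (J v))
    (hV : 2 ≤ finrank F V) (v : V) : polar Q (J v) v = 0 := by
  have hneg : ∀ a : F, a + a = 0 := fun a => by rw [← two_mul, h2, zero_mul]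
  let Z : Submodule F V :=
    { carrier := {v | polar Q (J v) v = 0}
      add_mem' := by
        intro a b ha hb
        have ha' : polar Q (J a) a = 0 := ha
        have hb' : polar Q (J b) b = 0 := hb
        show polar Q (J (a + b)) (a + b) = 0
        rw [map_add, polar_add_left, polar_add_right, polar_add_right, ha', hb', zero_add, add_zero, hadj b a,
          polar_comm (⇑Q) b (J a)]
        exact hneg _
      zero_mem' := by
        show polar Q (J 0) 0 = 0
        rw [map_zero, polar_zero_left]
      smul_mem' := by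
        intro c a ha
        have ha' : polar Q (J a) a = 0 := ha
        show polar Q (J (c • a)) (c • a) = 0
        rw [map_smul, polar_smul_left, polar_smul_right, ha', smul_zero, smul_zero] }
  have hZ : Inv x Z := by
    intro w hw
    have hw' : polar Q (J w) w = 0 := hw
    show polar Q (J (x w)) (x w) = 0
    rw [hJx, Cfsg.Agent.H975.Cov.polar_isom' hiso, hw']
  rcases hirr Z hZ with h | h
  · exfalso
    have hfin : Finite V := Module.finite_of_finite F
    have hni : ¬ Function.Injective (fun v : V => polar Q (J v) v) := by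
      intro hinj
      have h1 := Nat.card_le_card_of_injective _ hinj
      rw [Module.natCard_eq_pow_finrank (K := F) (V := V)] at h1
      have h3 : Nat.card F ^ 1 < Nat.card F ^ finrank F V :=
        Nat.pow_lt_pow_right (Finite.one_lt_card) (by omega)
      rw [pow_one] at h3
      omega
    apply hni
    intro a b hab
    have hab' : polar Q (J a) a = polar Q (J b) b := hab
    have h1 : a + b ∈ Z := by
      show polar Q (J (a + b)) (a + b) = 0
      rw [map_add, polar_add_left, polar_add_right, polar_add_right, hadj b a, polar_comm (⇑Q) b (J a), hab']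
      linear_combination hneg (polar Q (J b) b) + hneg (polar Q (J a) b)
    rw [h, Submodule.mem_bot] at h1
    have h3 : b + b = 0 := by rw [← two_smul F, h2, zero_smul]
    calc a = (a + b) - (b + b) + b := by abel
      _ = b := by rw [h1, h3]; simp
  · have : v ∈ Z := by rw [h]; trivial
    exact this

end Cfsg.Agent.H976.Rg
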